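import Groth.Agent.LogLoc97.Seq
import Groth.Agent.NCDLift3.Chart
import Groth.Agent.SchBasics.SmoothOmega
import Groth.Agent.FlatMor68.LocFree
import Groth.Agent.QC70.Colim
import Groth.Agent.S2384
import Groth.Agent.Div89.WeakAss
import Mathlib.RingTheory.Kaehler.Polynomial

/-!
Logarithmic differentials of a normal crossing divisor are locally free.
-/

set_option autoImplicit false
set_option maxHeartbeats 800000
set_option backward.isDefEq.respectTransparency false
set_option backward.isDefEq.respectTransparency.types false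
set_option linter.style.haveILetI false

universe u

noncomputable section

open CategoryTheory CategoryTheory.Limits AlgebraicGeometry TopologicalSpace Opposite MvPolynomial TensorProduct
open Groth.Agent.QC70

namespace Groth.Agent.LogLoc97

variable {X S : Scheme.{u}}

/-- An étale chart to affine space at the level of rings over any affine opens inside it. -/
theorem exists_coordHom (f : X ⟶ S) {W : X.Opens} {n : ℕ} (v : ULift.{u} (Fin n) → Γ(W, ⊤))
    [Etale (AffineSpace.homOfVector (W.ι ≫ f) v)] (A : S.affineOpens) {V : X.Opens} (hV : IsAffineOpen V)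
    (hVW : V ≤ W) (hVA : V ≤ f ⁻¹ᵁ A.1) :
    ∃ φ : MvPolynomial (ULift.{u} (Fin n)) Γ(S, A.1) →+* Γ(X, V), φ.Etale ∧
      φ.comp MvPolynomial.C = (f.appLE A.1 V hVA).hom ∧
      ∀ j, φ (MvPolynomial.X j) = LogNCD.sectOn W hVW (v j) := by
  let C := Γ(X, V)
  let w : ULift.{u} (Fin n) → Γ(Spec C, ⊤) := fun a => (Scheme.ΓSpecIso C).inv (LogNCD.sectOn W hVW (v a))
  let f₀ : Spec C ⟶ Spec Γ(S, A.1) := Spec.map (f.appLE A.1 V hVA)
  let j : Spec C ⟶ W := IsOpenImmersion.lift W.ι hV.fromSpec (by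
    rw [Scheme.Opens.range_ι, hV.range_fromSpec]; exact hVW)
  have hjι : j ≫ W.ι = hV.fromSpec := IsOpenImmersion.lift_fac _ _ _
  haveI : IsOpenImmersion j :=
    haveI : IsOpenImmersion (j ≫ W.ι) := hjι ▸ inferInstance
    IsOpenImmersion.of_comp j W.ι
  have hw : ∀ a, w a = j.appTop (v a) := by
    intro a
    have h1 : hV.fromSpec.appLE W ⊤ (hV.fromSpec_preimage_self.ge.trans (hV.fromSpec.preimage_mono hVW)) =
        X.presheaf.map (homOfLE hVW).op ≫ hV.fromSpec.appLE V ⊤ (hV.fromSpec_preimage_self.ge) :=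
      (Scheme.Hom.map_appLE _ _ _).symm
    have h2 : hV.fromSpec.appLE V ⊤ (hV.fromSpec_preimage_self.ge) = (Scheme.ΓSpecIso C).inv := by
      rw [Scheme.Hom.appLE, IsAffineOpen.fromSpec_app_self, Category.assoc, ← Functor.map_comp]
      exact (congrArg ((Scheme.ΓSpecIso C).inv ≫ ·) (((Spec C).presheaf.congr_map (Subsingleton.elim _ (𝟙 _))).trans
        (CategoryTheory.Functor.map_id _ _))).trans (Category.comp_id _)
    have h3 : (W.ι.appLE W ⊤ W.ι_preimage_self.ge) ≫ j.appTop = hV.fromSpec.appLE W ⊤ (hV.fromSpec_preimage_self.ge.trans (hV.fromSpec.preimage_mono hVW)) := by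
      have := Scheme.Hom.appLE_comp_appLE j W.ι W ⊤ ⊤ W.ι_preimage_self.ge le_top
      rw [show j.appTop = j.appLE ⊤ ⊤ le_top from (Scheme.Hom.app_eq_appLE j).trans rfl]
      refine this.trans ?_
      simp only [hjι]
    have h4 : W.topIso.hom ≫ W.ι.appLE W ⊤ W.ι_preimage_self.ge = 𝟙 _ := by
      rw [Scheme.Opens.ι_appLE, Scheme.Opens.topIso_hom, ← Functor.map_comp]
      exact (X.presheaf.congr_map (Subsingleton.elim _ (𝟙 _))).trans (CategoryTheory.Functor.map_id _ _)
    show (Scheme.ΓSpecIso C).inv (X.presheaf.map (homOfLE hVW).op (W.topIso.hom (v a))) = _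
    rw [← h2, ← ConcreteCategory.comp_apply, ← h1, ← h3, ← ConcreteCategory.comp_apply, ← Category.assoc, h4,
      Category.id_comp]
  have hf₀ : f₀ ≫ A.2.fromSpec = (j ≫ W.ι) ≫ f := by
    rw [hjι]; exact IsAffineOpen.SpecMap_appLE_fromSpec f A.2 hV hVA
  have hc : AffineSpace.homOfVector f₀ w ≫ AffineSpace.map (ULift.{u} (Fin n)) A.2.fromSpec =
      j ≫ AffineSpace.homOfVector (W.ι ≫ f) v := by
    apply AffineSpace.hom_ext
    · rw [Category.assoc, AffineSpace.map_over, ← Category.assoc, AffineSpace.homOfVector_over, hf₀,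
        Category.assoc, Category.assoc, AffineSpace.homOfVector_over]
    · intro a
      rw [Scheme.Hom.comp_appTop, CommRingCat.comp_apply, AffineSpace.map_appTop_coord,
        AffineSpace.homOfVector_appTop_coord, Scheme.Hom.comp_appTop, CommRingCat.comp_apply,
        AffineSpace.homOfVector_appTop_coord, hw]
  haveI : IsOpenImmersion (AffineSpace.map (ULift.{u} (Fin n)) A.2.fromSpec) :=
    MorphismProperty.of_isPullback (AffineSpace.isPullback_map A.2.fromSpec).flip inferInstance
  have het' : Etale (AffineSpace.homOfVector f₀ w) := by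
    haveI : Etale (AffineSpace.homOfVector f₀ w ≫ AffineSpace.map (ULift.{u} (Fin n)) A.2.fromSpec) := by
      rw [hc]; infer_instance
    exact MorphismProperty.of_postcomp (W := @Etale) (W' := @Etale) _
      (AffineSpace.map (ULift.{u} (Fin n)) A.2.fromSpec) inferInstance inferInstance
  haveI : MorphismProperty.RespectsIso @Etale.{u} := MorphismProperty.IsStableUnderBaseChange.respectsIso
  have hφ : (AffNorm62.coordHom f₀ w).Etale :=
    (HasRingHomProperty.Spec_iff (P := @Etale)).mp ((AffNorm62.property_homOfVector_iff @Etale _ _).mp het')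
  let ε : Γ(Spec C, ⊤) →+* C := (Scheme.ΓSpecIso C).hom.hom
  refine ⟨ε.comp (AffNorm62.coordHom f₀ w),
    RingHom.Etale.propertyIsLocal.respectsIso.1 _ (Scheme.ΓSpecIso C).commRingCatIsoToRingEquiv hφ, ?_, fun j => ?_⟩
  · refine RingHom.ext fun a => ?_
    show (Scheme.ΓSpecIso C).hom (eval₂Hom _ w (MvPolynomial.C a)) = _
    rw [eval₂Hom_C]
    have e1 : (Scheme.ΓSpecIso Γ(S, A.1)).inv ≫ f₀.appTop ≫ (Scheme.ΓSpecIso C).hom = f.appLE A.1 V hVA := by
      rw [Scheme.ΓSpecIso_naturality, Iso.inv_hom_id_assoc]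
    exact congr($e1 a)
  · show (Scheme.ΓSpecIso C).hom (eval₂Hom _ w (MvPolynomial.X _)) = _
    rw [eval₂Hom_X']
    exact Iso.inv_hom_id_apply (Scheme.ΓSpecIso C) _

variable {f : X ⟶ S} {Ω' : X.Modules} {d : OmegaSh.Der f Ω'}

/-- The coordinate differentials of an étale chart are a basis on every affine open inside it. -/
theorem exists_basis_dcoord (hd : OmegaSh.IsUniversal d) {W : X.Opens} {n : ℕ} (v : ULift.{u} (Fin n) → Γ(W, ⊤))
    [Etale (AffineSpace.homOfVector (W.ι ≫ f) v)] (A : S.affineOpens) {V : X.Opens} (hV : IsAffineOpen V)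
    (hVW : V ≤ W) (hVA : V ≤ f ⁻¹ᵁ A.1) :
    ∃ b : Module.Basis (ULift.{u} (Fin n)) Γ(X, V) Γ(Ω', V),
      ∀ j, b j = d.app V (LogNCD.sectOn W hVW (v j)) := by
  obtain ⟨φ, hφ, hC, hX⟩ := exists_coordHom f v A hV hVW hVA
  letI : Algebra Γ(S, A.1) Γ(X, V) := (f.appLE A.1 V hVA).hom.toAlgebra
  letI : Algebra (MvPolynomial (ULift.{u} (Fin n)) Γ(S, A.1)) Γ(X, V) := φ.toAlgebra
  haveI : IsScalarTower Γ(S, A.1) (MvPolynomial (ULift.{u} (Fin n)) Γ(S, A.1)) Γ(X, V) :=
    IsScalarTower.of_algebraMap_eq' hC.symm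
  haveI : Algebra.Etale (MvPolynomial (ULift.{u} (Fin n)) Γ(S, A.1)) Γ(X, V) := hφ
  obtain ⟨eΩ, he⟩ := SchBasics.exists_chartEquiv hd hV A.2 hVA
  refine ⟨(((KaehlerDifferential.mvPolynomialBasis Γ(S, A.1) (ULift.{u} (Fin n))).baseChange Γ(X, V)).map
    (KaehlerDifferential.tensorKaehlerEquivOfFormallyEtale Γ(S, A.1) _ Γ(X, V))).map eΩ, fun j => ?_⟩
  rw [Module.Basis.map_apply, Module.Basis.map_apply, Module.Basis.baseChange_apply]
  rw [show (KaehlerDifferential.mvPolynomialBasis Γ(S, A.1) (ULift.{u} (Fin n))) j =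
      KaehlerDifferential.D _ _ (MvPolynomial.X j) from KaehlerDifferential.mvPolynomialBasis_apply _ _ j]
  rw [KaehlerDifferential.tensorKaehlerEquivOfFormallyEtale_apply, KaehlerDifferential.mapBaseChange_tmul,
    one_smul, KaehlerDifferential.map_D, he]
  congr 1
  exact hX j

theorem der_one (U : X.Opens) : d.app U (1 : Γ(X, U)) = 0 := by
  have h := Var76.OmegaUniv.Der.map_mul d U 1 1
  rw [mul_one, one_smul] at h
  exact left_eq_add.1 h

variable {r : ℕ} {D : Fin r → X.IdealSheafData}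

theorem isQuasicoherent_logMod (hd : OmegaSh.IsUniversal d) (hD : LogNCD.IsNCD D f) (Λ : LogNCD.LogMod d D)
    (h : Λ.ι ≫ Pi.lift Λ.res = 0) : Λ.L.IsQuasicoherent := by
  haveI : HasFiniteBiproducts X.Modules := Abelian.hasFiniteBiproducts
  refine S2384.result _ (shortExact_residue hD Λ h) (SchBasics.isQuasicoherent_of_isUniversal hd) ?_
  have hq : ∀ i, (ClSub.quotMod (D i)).IsQuasicoherent := fun i => by
    haveI : (Coh.structureModule (D i).subscheme).IsQuasicoherent := Div89.isQCoh_structureModule _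
    exact QCqs72.isQuasicoherent_pushforward (M := Coh.structureModule (D i).subscheme) (D i).subschemeι
  exact isQuasicoherent_of_iso
    ((Sigma.whiskerEquiv (g := fun i : Fin r => ClSub.quotMod (D i)) Equiv.ulift.{u} (fun _ => Iso.refl _)) ≪≫
      (biproduct.isoCoproduct _).symm ≪≫ biproduct.isoProduct _)
    (isQuasicoherent_coproduct (fun i : ULift.{u} (Fin r) => ClSub.quotMod (D i.down)) fun i => hq i.down)

/-- The rank of differentials of a smooth morphism of relative dimension `n`. -/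
theorem exists_rank_sections (n : ℕ) [SmoothOfRelativeDimension n f] (hd : OmegaSh.IsUniversal d) (x : X) :
    ∃ U₀ : X.Opens, x ∈ U₀ ∧ ∀ {U : X.Opens}, U ≤ U₀ → Nonempty ((Fin n → Γ(X, U)) ≃ₗ[Γ(X, U)] Γ(Ω', U)) := by
  haveI : Smooth f := SmoothOfRelativeDimension.smooth n f
  have hx : x ∈ f.smoothLocus := by rw [f.smoothLocus_eq_top]; trivial
  obtain ⟨U₀, m, hxU₀, ⟨i⟩, hdim⟩ :=
    SchBasics.exists_free_nhd_of_formallySmooth_stalk hd x (Scheme.Hom.mem_smoothLocus.1 hx)
  rw [S2768.result n f x] at hdim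
  obtain rfl : n = m := by exact_mod_cast hdim
  exact ⟨U₀, hxU₀, fun hle => Var76.OmegaRegular.sections_free i hle⟩

theorem isFinLocFreeOfRank_logMod (n : ℕ) [SmoothOfRelativeDimension n f] (hd : OmegaSh.IsUniversal d)
    (hD : LogNCD.IsNCD D f) (Λ : LogNCD.LogMod d D) : FlatMod.IsFinLocFreeOfRank n Λ.L := by
  classical
  have h : Λ.ι ≫ Pi.lift Λ.res = 0 := limit.hom_ext fun ⟨i⟩ => by
    rw [Category.assoc, zero_comp]
    exact (congrArg (Λ.ι ≫ ·) (Pi.lift_π Λ.res i)).trans (Λ.res_ι i)
  haveI := isQuasicoherent_logMod hd hD Λ h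
  haveI := Λ.mono
  intro x
  obtain ⟨U₀, hxU₀, hrank⟩ := exists_rank_sections n hd x
  by_cases hx : Nonempty (LogNCD.Through D x)
  · obtain ⟨W, hxW, m, v, e, he, het, hthr, hoff⟩ := hD x hx
    obtain ⟨A, hA, hfxA, -⟩ := exists_isAffineOpen_mem_and_subset (X := S) (x := f x) (U := ⊤) trivial
    obtain ⟨U, hU, hxU, hle⟩ := exists_isAffineOpen_mem_and_subset (x := x) (U := W ⊓ U₀ ⊓ f ⁻¹ᵁ A)
      ⟨⟨hxW, hxU₀⟩, hfxA⟩
    have hUW : U ≤ W := fun y hy => (hle hy).1.1
    have hUA : U ≤ f ⁻¹ᵁ A := fun y hy => (hle hy).2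
    obtain ⟨b, hb⟩ := exists_basis_dcoord hd v ⟨A, hA⟩ hU hUW hUA
    obtain ⟨φ, hφ, -, hφX⟩ := exists_coordHom f v ⟨A, hA⟩ hU hUW hUA
    haveI : Nontrivial Γ(X, U) := (X.presheaf.germ U x hxU).hom.domain_nontrivial
    obtain ⟨c⟩ := hrank (U := U) fun y hy => (hle hy).1.2
    have hmn : m = n := by
      have h1 := Module.finrank_eq_card_basis b
      rw [← c.finrank_eq, Module.finrank_fin_fun, Fintype.card_ulift, Fintype.card_fin] at h1
      exact h1.symm
    subst hmn
    let y : Fin m → Γ(X, U) := fun j => LogNCD.sectOn W hUW (v (ULift.up j))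
    let g : Fin r → Γ(X, U) := fun i => if hi : x ∈ (D i).support then y (e ⟨i, hi⟩) else 1
    have hg : ∀ i, (D i).ideal ⟨U, hU⟩ = Ideal.span {g i} := fun i => by
      by_cases hi : x ∈ (D i).support
      · simp only [g, dif_pos hi]
        exact hthr ⟨i, hi⟩ ⟨U, hU⟩ _
      · simp only [g, dif_neg hi, Ideal.span_singleton_one]
        exact hoff i hi ⟨U, hU⟩ hUW
    obtain ⟨dl, h1, -, -, hdec⟩ := exists_decomp Λ ⟨U, hU⟩ g hg
    let G : Γ(X, U) := ∏ i, g i
    have hflat : φ.Flat := by
      algebraize [φ]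
      exact RingHom.flat_algebraMap_iff.2 inferInstance
    have hgreg : ∀ i, IsRightRegular (g i) := fun i => by
      by_cases hi : x ∈ (D i).support
      · simp only [g, dif_pos hi]
        refine fun a b hab => sub_eq_zero.1 ((NCDLift3.regular_and_flat_quotient φ hflat
          (ULift.up (e ⟨i, hi⟩))).1 _ ?_)
        rw [hφX, mul_comm, sub_mul, sub_eq_zero]
        exact hab
      · simp only [g, dif_neg hi]
        exact isRegular_one.right
    let E : Fin m → Γ(Λ.L, U) := fun j =>
      if hj : ∃ i, e i = j then dl hj.choose.1 else Λ.ι.app U (d.app U (y j))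
    have hEe : ∀ i : LogNCD.Through D x, E (e i) = dl i.1 := fun i => by
      have hj : ∃ i', e i' = e i := ⟨i, rfl⟩
      simp only [E, dif_pos hj, he hj.choose_spec]
    have hge : ∀ i : LogNCD.Through D x, g i.1 = y (e i) := fun i => dif_pos i.2
    have hEd : ∀ j, ∃ h : Γ(X, U), IsRightRegular h ∧ G • E j = Λ.ι.app U (h • d.app U (y j)) := by
      intro j
      by_cases hj : ∃ i, e i = j
      · obtain ⟨i, rfl⟩ := hj
        refine ⟨∏ l ∈ Finset.univ.erase i.1, g l,
          Finset.prod_induction _ IsRightRegular (fun _ _ ha hb => ha.mul hb) isRegular_one.right (fun l _ => hgreg l), ?_⟩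
        rw [hEe, Scheme.Modules.Hom.app_smul, ← hge, ← h1, smul_smul, mul_comm]
        congr 1
        exact (Finset.mul_prod_erase Finset.univ g (Finset.mem_univ i.1)).symm
      · refine ⟨G, Finset.prod_induction _ IsRightRegular (fun _ _ ha hb => ha.mul hb) isRegular_one.right
          (fun l _ => hgreg l), ?_⟩
        simp only [E, dif_neg hj]
        rw [Scheme.Modules.Hom.app_smul]
    let T := Fintype.linearCombination Γ(X, U) E
    have hinj : Function.Injective T := by
      rw [injective_iff_map_eq_zero]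
      intro a ha
      choose hh hreg hhE using hEd
      have h2 : Λ.ι.app U (∑ j, (a j * hh j) • d.app U (y j)) = Λ.ι.app U 0 := by
        have h3 := congrArg (G • ·) ha
        simp only [T, Fintype.linearCombination_apply, Finset.smul_sum, smul_zero] at h3
        rw [map_zero, map_sum, ← h3]
        refine Finset.sum_congr rfl fun j _ => ?_
        rw [smul_comm G (a j), hhE, ← Scheme.Modules.Hom.app_smul, smul_smul]
      have h4 := app_injective_of_mono Λ.ι U h2
      have h5 := Fintype.linearIndependent_iff.1 (b.linearIndependent.comp ULift.up ULift.up_injective)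
        (fun j => a j * hh j) (by simpa only [Function.comp_apply, hb] using h4)
      funext j
      exact hreg j ((h5 j).trans (zero_mul _).symm)
    have hdy : ∀ j, Λ.ι.app U (d.app U (y j)) ∈ LinearMap.range T := by
      intro j
      by_cases hj : ∃ i, e i = j
      · obtain ⟨i, rfl⟩ := hj
        refine ⟨Pi.single (e i) (g i.1), ?_⟩
        rw [Fintype.linearCombination_apply_single, hEe, h1, hge]
      · refine ⟨Pi.single j 1, ?_⟩
        rw [Fintype.linearCombination_apply_single, one_smul]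
        simp only [E, dif_neg hj]
    have hsurj : Function.Surjective T := by
      intro t
      obtain ⟨ω, a, rfl⟩ := hdec t
      refine LinearMap.mem_range.1 (add_mem ?_ (sum_mem fun i _ => Submodule.smul_mem _ _ ?_))
      · rw [← b.sum_repr ω, map_sum]
        refine sum_mem fun j _ => ?_
        rw [Scheme.Modules.Hom.app_smul, hb]
        exact Submodule.smul_mem _ _ (hdy j.down)
      · by_cases hi : x ∈ (D i).support
        · rw [show dl i = E (e ⟨i, hi⟩) from (hEe ⟨i, hi⟩).symm]
          exact ⟨Pi.single (e ⟨i, hi⟩) 1, by rw [Fintype.linearCombination_apply_single, one_smul]⟩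
        · have hg1 : g i = 1 := dif_neg hi
          have h6 := h1 i
          rw [hg1, one_smul, der_one, map_zero] at h6
          rw [h6]
          exact zero_mem _
    exact ⟨U, hxU, FlatMor68.LocFree.restrict_iso_free Λ.L hU m (LinearEquiv.ofBijective T ⟨hinj, hsurj⟩).symm⟩
  · have hoff : ∀ i, x ∈ (D i).support.compl := fun i hi => hx ⟨⟨i, hi⟩⟩
    let V : X.Opens := U₀ ⊓ Finset.univ.inf fun i => (D i).support.compl
    have hV : x ∈ V := ⟨hxU₀, by
      rw [Opens.coe_finset_inf, Finset.inf_set_eq_iInter]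
      exact Set.mem_iInter₂.2 fun i _ => hoff i⟩
    obtain ⟨U, hU, hxU, hle⟩ := exists_isAffineOpen_mem_and_subset (x := x) (U := V) hV
    obtain ⟨dl, h1, -, -, hdec⟩ := exists_decomp Λ ⟨U, hU⟩ (fun _ => 1) fun i => by
      rw [Ideal.span_singleton_one]
      refine ideal_eq_top_of_disjoint _ _ (Set.disjoint_left.2 fun z hzD hzU => ?_)
      exact (Finset.inf_le (f := fun i => (D i).support.compl) (Finset.mem_univ i) (hle hzU).2) hzD
    obtain ⟨c⟩ := hrank (U := U) fun z hz => (hle hz).1
    let L₀ : Γ(Ω', U) →ₗ[Γ(X, U)] Γ(Λ.L, U) :=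
      { toFun := Λ.ι.app U, map_add' := map_add _, map_smul' := fun a z => Scheme.Modules.Hom.app_smul Λ.ι a z }
    have hsurj : Function.Surjective L₀ := fun t => by
      obtain ⟨ω, a, rfl⟩ := hdec t
      refine ⟨ω, ?_⟩
      have h0 : ∀ i, dl i = 0 := fun i => by
        have h6 := h1 i
        rwa [one_smul, der_one, map_zero] at h6
      simp [h0, L₀]
    exact ⟨U, hxU, FlatMor68.LocFree.restrict_iso_free Λ.L hU n
      (c ≪≫ₗ LinearEquiv.ofBijective L₀ ⟨app_injective_of_mono Λ.ι U, hsurj⟩).symm⟩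

end Groth.Agent.LogLoc97
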