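import Groth.Prelude.Def_LogNCD
import Groth.Agent.QC70.Sections
import Groth.Agent.Crv77.IdealSeq

/-!
The residue sequence of the sheaf of logarithmic differentials.
-/

set_option autoImplicit false
set_option backward.isDefEq.respectTransparency.types false
set_option linter.style.haveILetI false

universe u

noncomputable section

open CategoryTheory CategoryTheory.Limits AlgebraicGeometry TopologicalSpace Opposite
open Groth.Agent.QC70

namespace Groth.Agent.LogLoc97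

variable {X S : Scheme.{u}}

theorem ideal_eq_top_of_disjoint (I : X.IdealSheafData) (U : X.affineOpens)
    (h : Disjoint (I.support : Set X) U.1) : I.ideal U = ⊤ := by
  have h1 := I.coe_support_inter U
  rw [h.inter_eq] at h1
  have h2 : PrimeSpectrum.zeroLocus (I.ideal U : Set Γ(X, U.1)) = ∅ := by
    refine Set.eq_empty_of_forall_notMem fun P hP => ?_
    have h3 : U.2.fromSpec P ∈ X.zeroLocus (U := U.1) (I.ideal U : Set Γ(X, U.1)) ∩ U.1 := by
      refine ⟨?_, U.2.range_fromSpec.le ⟨P, rfl⟩⟩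
      have h4 : P ∈ U.2.fromSpec ⁻¹' X.zeroLocus (U := U.1) (I.ideal U : Set Γ(X, U.1)) := by
        rw [IsAffineOpen.fromSpec_preimage_zeroLocus]
        exact hP
      exact h4
    rw [← h1] at h3
    exact h3
  exact PrimeSpectrum.zeroLocus_empty_iff_eq_top.1 h2

/-- Affine opens on which every component of a normal crossing divisor is principal form a basis. -/
theorem exists_principal_affine {f : X ⟶ S} {r : ℕ} {D : Fin r → X.IdealSheafData} (hD : LogNCD.IsNCD D f)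
    (W : X.Opens) {x : X} (hx : x ∈ W) :
    ∃ (U : X.affineOpens), U.1 ≤ W ∧ x ∈ U.1 ∧
      ∃ g : Fin r → Γ(X, U.1), ∀ i, (D i).ideal U = Ideal.span {g i} := by
  classical
  by_cases h : Nonempty (LogNCD.Through D x)
  · obtain ⟨W', hxW', n, v, e, -, -, hthrough, hoff⟩ := hD x h
    obtain ⟨U, hU, hxU, hle⟩ := exists_isAffineOpen_mem_and_subset (x := x) (U := W ⊓ W') ⟨hx, hxW'⟩
    refine ⟨⟨U, hU⟩, fun y hy => (hle hy).1, hxU, fun i => if hi : x ∈ (D i).support then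
      LogNCD.sectOn W' (fun y hy => (hle hy).2) (v (ULift.up (e ⟨i, hi⟩))) else 1, fun i => ?_⟩
    by_cases hi : x ∈ (D i).support
    · simp only [dif_pos hi]
      exact hthrough ⟨i, hi⟩ ⟨U, hU⟩ _
    · simp only [dif_neg hi, Ideal.span_singleton_one]
      exact hoff i hi ⟨U, hU⟩ fun y hy => (hle hy).2
  · have hoff : ∀ i, x ∈ (D i).support.compl := fun i hi => h ⟨⟨i, hi⟩⟩
    let V : X.Opens := W ⊓ Finset.univ.inf fun i => (D i).support.compl
    have hV : x ∈ V := ⟨hx, by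
      rw [Opens.coe_finset_inf]
      rw [Finset.inf_set_eq_iInter]
      exact Set.mem_iInter₂.2 fun i _ => hoff i⟩
    obtain ⟨U, hU, hxU, hle⟩ := exists_isAffineOpen_mem_and_subset (x := x) (U := V) hV
    refine ⟨⟨U, hU⟩, fun y hy => (hle hy).1, hxU, fun _ => 1, fun i => ?_⟩
    rw [Ideal.span_singleton_one]
    refine ideal_eq_top_of_disjoint _ _ (Set.disjoint_left.2 fun y hyD hyU => ?_)
    exact (Finset.inf_le (f := fun i => (D i).support.compl) (Finset.mem_univ i) (hle hyU).2) hyD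

theorem toSubscheme_app_eq (I : X.IdealSheafData) (U : X.Opens) (a : Γ(X, U)) :
    (ClSub.toSubscheme I).app U (a : Γ(Coh.structureModule X, U)) =
      a • LogNCD.oneOn I U := by
  refine Eq.trans ?_ (Scheme.Modules.Hom.app_smul (ClSub.toSubscheme I) a _)
  exact congrArg ((ClSub.toSubscheme I).app U) (mul_one a).symm

theorem mem_ideal_of_smul_oneOn (I : X.IdealSheafData) (U : X.affineOpens) (a : Γ(X, U.1))
    (h : a • LogNCD.oneOn I U.1 = 0) : a ∈ I.ideal U := by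
  rw [← toSubscheme_app_eq] at h
  rw [← I.ker_subschemeι_app U]
  exact h

variable {f : X ⟶ S} {Ω' : X.Modules} {d : OmegaSh.Der f Ω'} {r : ℕ} {D : Fin r → X.IdealSheafData}

/-- On a principal affine open every section is a form plus logarithmic terms. -/
theorem exists_decomp (Λ : LogNCD.LogMod d D) (U : X.affineOpens) (g : Fin r → Γ(X, U.1))
    (hg : ∀ i, (D i).ideal U = Ideal.span {g i}) :
    ∃ dl : Fin r → Γ(Λ.L, U.1),
      (∀ i, g i • dl i = Λ.ι.app U.1 (d.app U.1 (g i))) ∧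
      (∀ i, (Λ.res i).app U.1 (dl i) = LogNCD.oneOn (D i) U.1) ∧
      (∀ i j, i ≠ j → (Λ.res j).app U.1 (dl i) = 0) ∧
      ∀ t : Γ(Λ.L, U.1), ∃ (ω : Γ(Ω', U.1)) (a : Fin r → Γ(X, U.1)),
        Λ.ι.app U.1 ω + ∑ i, a i • dl i = t := by
  obtain ⟨-, dl, h1, h2, h3, h4⟩ := Λ.rule U g hg
  refine ⟨dl, h1, h3, h4, fun t => ?_⟩
  let t' : Λ.L.val.obj (op U.1) := t
  have ht : t' ∈ Submodule.span Γ(X, U.1) ((LinearMap.range ((Λ.ι.val.app (op U.1)).hom) : Set _)) ⊔
      Submodule.span Γ(X, U.1) (Set.range dl) := by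
    rw [← Submodule.span_union, LinearMap.coe_range]
    exact h2.ge trivial
  erw [Submodule.span_eq, Submodule.mem_sup] at ht
  obtain ⟨y, hy, z, hz, hyz⟩ := ht
  obtain ⟨ω, rfl⟩ := hy
  obtain ⟨a, rfl⟩ := (Submodule.mem_span_range_iff_exists_fun Γ(X, U.1)).1 hz
  exact ⟨ω, a, hyz⟩

theorem res_decomp (Λ : LogNCD.LogMod d D) (U : X.Opens) (dl : Fin r → Γ(Λ.L, U))
    (h3 : ∀ i, (Λ.res i).app U (dl i) = LogNCD.oneOn (D i) U)
    (h4 : ∀ i j, i ≠ j → (Λ.res j).app U (dl i) = 0)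
    (ω : Γ(Ω', U)) (a : Fin r → Γ(X, U)) (j : Fin r) :
    (Λ.res j).app U (Λ.ι.app U ω + ∑ i, a i • dl i) = a j • LogNCD.oneOn (D j) U := by
  have h0 : (Λ.res j).app U (Λ.ι.app U ω) = 0 :=
    congrArg (fun φ : Ω' ⟶ ClSub.quotMod (D j) => φ.app U ω) (Λ.res_ι j)
  rw [map_add, h0, zero_add, map_sum, Finset.sum_eq_single j (fun i _ hi => ?_) (by simp)]
  · rw [Scheme.Modules.Hom.app_smul, h3]; rfl
  · rw [Scheme.Modules.Hom.app_smul, h4 i j hi, smul_zero]

theorem prod_sections_ext (Q : Fin r → X.Modules) (U : X.Opens) {y z : Γ(∏ᶜ Q, U)}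
    (h : ∀ i, (Pi.π Q i).app U y = (Pi.π Q i).app U z) : y = z :=
  Concrete.isLimit_ext _ (isLimitOfPreserves (sectionsFunctor X U) (productIsProduct Q)) y z
    fun ⟨i⟩ => h i

theorem pi_lift_app (Λ : LogNCD.LogMod d D) (U : X.Opens) (t : Γ(Λ.L, U)) (i : Fin r) :
    (Pi.π (fun i => ClSub.quotMod (D i)) i).app U ((Pi.lift Λ.res).app U t) = (Λ.res i).app U t :=
  congrArg (fun φ : Λ.L ⟶ ClSub.quotMod (D i) => φ.app U t) (Pi.lift_π Λ.res i)

theorem shortExact_residue (hD : LogNCD.IsNCD D f) (Λ : LogNCD.LogMod d D)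
    (h : Λ.ι ≫ Pi.lift Λ.res = 0) :
    (ShortComplex.mk Λ.ι (Pi.lift Λ.res) h).ShortExact := by
  haveI := Λ.mono
  have hepi : Epi (Pi.lift Λ.res) := by
    refine epi_of_locally_surjective _ fun W s p hp => ?_
    obtain ⟨U, hUW, hpU, g, hg⟩ := exists_principal_affine hD W hp
    obtain ⟨dl, -, h3, h4, -⟩ := exists_decomp Λ U g hg
    have hs : ∀ i, ∃ a : Γ(X, U.1), (D i).subschemeι.app U.1 a =
        (Pi.π (fun i => ClSub.quotMod (D i)) i).app U.1 (res (∏ᶜ fun i => ClSub.quotMod (D i)) hUW s) := fun i =>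
      (D i).subschemeι.app_surjective U.1 U.2 _
    choose a ha using hs
    refine ⟨U.1, hUW, Λ.ι.app U.1 0 + ∑ i, a i • dl i, hpU, prod_sections_ext _ _ fun i => ?_⟩
    refine (pi_lift_app Λ _ _ i).trans ?_
    rw [res_decomp Λ _ dl h3 h4, ← toSubscheme_app_eq]
    exact ha i
  refine { exact := ?_, mono_f := Λ.mono, epi_g := hepi }
  rw [ShortComplex.exact_iff_epi_kernel_lift]
  refine epi_of_locally_surjective _ fun W s p hp => ?_
  obtain ⟨U, hUW, hpU, g, hg⟩ := exists_principal_affine hD W hp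
  obtain ⟨dl, h1, h3, h4, hdec⟩ := exists_decomp Λ U g hg
  let k := kernel.ι (Pi.lift Λ.res)
  obtain ⟨ω, a, hωa⟩ := hdec (k.app U.1 (res _ hUW s))
  have ha : ∀ i, ∃ c : Γ(X, U.1), c * g i = a i := fun i => by
    have h0 : (Λ.res i).app U.1 (k.app U.1 (res _ hUW s)) = 0 := by
      rw [← pi_lift_app]
      have h5 : (Pi.lift Λ.res).app U.1 (k.app U.1 (res _ hUW s)) = 0 :=
        congrArg (fun φ : kernel (Pi.lift Λ.res) ⟶ _ => φ.app U.1 (res _ hUW s)) (kernel.condition (Pi.lift Λ.res))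
      rw [h5, map_zero]
    rw [← hωa, res_decomp Λ _ dl h3 h4] at h0
    exact Ideal.mem_span_singleton'.1 (hg i ▸ mem_ideal_of_smul_oneOn _ U _ h0)
  choose c hc using ha
  refine ⟨U.1, hUW, ω + ∑ i, c i • d.app U.1 (g i), hpU, app_injective_of_mono k U.1 ?_⟩
  refine Eq.trans ?_ hωa
  have hk : kernel.lift (Pi.lift Λ.res) Λ.ι h ≫ k = Λ.ι := kernel.lift_ι _ _ _
  refine (congrArg (fun φ : Ω' ⟶ Λ.L => φ.app U.1 (ω + ∑ i, c i • d.app U.1 (g i))) hk).trans ?_
  rw [map_add, map_sum]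
  congr 1
  refine Finset.sum_congr rfl fun i _ => ?_
  rw [Scheme.Modules.Hom.app_smul, ← h1, smul_smul, hc]

end Groth.Agent.LogLoc97
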